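import Cfsg.Agent.H891.DG.WrBasic

/-!
# TEAM GEN, S4180, piece Wf: the numerical estimate (helper58)
-/

set_option autoImplicit false
namespace Cfsg.Agent.H891.DG.WrB

open Subgroup Cfsg.Agent.H891.DG
universe u

theorem num_fifteen {o s : ℕ} (hs : 60 ≤ s) (h4 : 4 * o ^ 2 ≤ s) : 15 * o ≤ s := by
  rcases le_or_gt o 4 with h | h
  · nlinarith
  · nlinarith

theorem num_term {n o s k : ℕ} (hs : 60 ≤ s) (h4 : 4 * o ^ 2 ≤ s) (hk : 2 ≤ k) (hkn : k ≤ n) :
    4 * 15 ^ (k - 2) * ((o * s) ^ k * s ^ (2 * (n - k))) ≤ s ^ (2 * n - 1) := by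
  obtain ⟨j, rfl⟩ : ∃ j, k = j + 2 := ⟨k - 2, by omega⟩
  obtain ⟨r, rfl⟩ : ∃ r, n = j + 2 + r := ⟨n - (j + 2), by omega⟩
  have h15 : 15 * o ≤ s := num_fifteen hs h4
  have e1 : j + 2 - 2 = j := by omega
  have e2 : j + 2 + r - (j + 2) = r := by omega
  have e3 : 2 * (j + 2 + r) - 1 = (j + 1) + (j + 2) + 2 * r := by omega
  rw [e1, e2, e3]
  calc 4 * 15 ^ j * ((o * s) ^ (j + 2) * s ^ (2 * r))
      = (4 * o ^ 2) * (15 * o) ^ j * (s ^ (j + 2) * s ^ (2 * r)) := by
        rw [mul_pow, mul_pow]; ring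
    _ ≤ s * s ^ j * (s ^ (j + 2) * s ^ (2 * r)) := by
        gcongr
    _ = s ^ (j + 1 + (j + 2) + 2 * r) := by ring

theorem num_kappa {n o s κ : ℕ} (hn : 3 ≤ n) (hs : 60 ≤ s) (h4 : 4 * o ^ 2 ≤ s)
    (hκ : s ^ κ ≤ n.factorial * o ^ n) : κ ≤ n ^ 2 := by
  by_contra hc
  rw [not_le] at hc
  have h15 : 15 * o ≤ s := num_fifteen hs h4
  have h1 : (s ^ n) ^ n ≤ (n * o) ^ n := by
    calc (s ^ n) ^ n = s ^ (n ^ 2) := by rw [← pow_mul, sq]
      _ ≤ s ^ κ := Nat.pow_le_pow_right (by omega) hc.le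
      _ ≤ n.factorial * o ^ n := hκ
      _ ≤ n ^ n * o ^ n := Nat.mul_le_mul_right _ (Nat.factorial_le_pow n)
      _ = (n * o) ^ n := (mul_pow _ _ _).symm
  have h2 : s ^ n ≤ n * o := (Nat.pow_le_pow_iff_left (by omega)).1 h1
  obtain ⟨m, rfl⟩ : ∃ m, n = m + 1 := ⟨n - 1, by omega⟩
  have h3 : m + 1 < s ^ m := by
    have h5 : m + 1 < 60 ^ m := by
      clear h1 h2 hc hκ
      induction m, (show 2 ≤ m by omega) using Nat.le_induction with
      | base => norm_num
      | succ k hk ih =>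
        have := ih (by omega)
        rw [pow_succ]
        omega
    exact lt_of_lt_of_le h5 (Nat.pow_le_pow_left hs m)
  have h6 : s ^ (m + 1) = s ^ m * s := pow_succ _ _
  have h7 : (m + 1) * s < s ^ m * s := Nat.mul_lt_mul_of_pos_right h3 (by omega)
  have h8 : (m + 1) * o ≤ (m + 1) * s := Nat.mul_le_mul_left _ (by omega)
  omega

theorem num_kappa_term {n o s κ : ℕ} (hn : 3 ≤ n) (hs : 60 ≤ s) (h4 : 4 * o ^ 2 ≤ s)
    (hκ : s ^ κ ≤ n.factorial * o ^ n) : 100 * (κ * (o * s) * s ^ (n - 1)) ≤ s ^ (2 * n - 1) := by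
  have h15 : 15 * o ≤ s := num_fifteen hs h4
  have hk : κ ≤ n ^ 2 := num_kappa hn hs h4 hκ
  obtain ⟨m, rfl⟩ : ∃ m, n = m + 3 := ⟨n - 3, by omega⟩
  have e1 : m + 3 - 1 = m + 2 := by omega
  have e2 : 2 * (m + 3) - 1 = (m + 1) + (m + 4) := by omega
  rw [e1, e2]
  have h5 : 100 * (m + 3) ^ 2 ≤ 15 * 60 ^ (m + 1) := by
    clear hκ hk
    induction m with
    | zero => norm_num
    | succ k ih =>
      have := ih (by omega) (by omega) (by omega)
      have h6 : 15 * 60 ^ (k + 1 + 1) = 60 * (15 * 60 ^ (k + 1)) := by ring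
      rw [h6]
      nlinarith
  have h6 : 100 * (m + 3) ^ 2 ≤ 15 * s ^ (m + 1) :=
    h5.trans (Nat.mul_le_mul_left _ (Nat.pow_le_pow_left hs _))
  have h7 : 15 * (100 * (κ * (o * s) * s ^ (m + 2))) ≤ 15 * s ^ ((m + 1) + (m + 4)) := by
    calc 15 * (100 * (κ * (o * s) * s ^ (m + 2)))
        = 100 * κ * (15 * o) * s ^ (m + 3) := by ring
      _ ≤ 100 * (m + 3) ^ 2 * s * s ^ (m + 3) := by gcongr
      _ ≤ 15 * s ^ (m + 1) * s * s ^ (m + 3) := by gcongr
      _ = 15 * s ^ ((m + 1) + (m + 4)) := by ring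
  omega

theorem num_pow {n : ℕ} (hn : 5 ≤ n) : 15 * 2 ^ (n - 1) ≤ 32 * 15 ^ (n - n / 2 - 2) := by
  induction n using Nat.strong_induction_on with
  | _ n ih =>
    rcases lt_or_ge n 7 with h | h
    · interval_cases n <;> norm_num
    · have h1 := ih (n - 2) (by omega) (by omega)
      have e1 : n - 1 = (n - 2 - 1) + 2 := by omega
      have e2 : n - n / 2 - 2 = (n - 2 - (n - 2) / 2 - 2) + 1 := by omega
      rw [e1, e2, pow_add, pow_succ]
      omega

variable {I : Type u} [Fintype I] [DecidableEq I]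

theorem num_card_filter (i₀ : I) : ((Finset.univ : Finset (Finset I)).filter fun B => i₀ ∈ B).card ≤
    2 ^ (Fintype.card I - 1) := by
  have h1 : ((Finset.univ : Finset (Finset I)).filter fun B => i₀ ∈ B) ⊆
      ((Finset.univ.erase i₀ : Finset I).powerset).image (insert i₀) := by
    intro B hB
    rw [Finset.mem_filter] at hB
    rw [Finset.mem_image]
    refine ⟨B.erase i₀, ?_, Finset.insert_erase hB.2⟩
    rw [Finset.mem_powerset]
    exact Finset.erase_subset_erase _ (Finset.subset_univ B)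
  refine (Finset.card_le_card h1).trans (Finset.card_image_le.trans ?_)
  rw [Finset.card_powerset, Finset.card_erase_of_mem (Finset.mem_univ _), Finset.card_univ]

theorem num_card_two (i₀ : I) :
    ((Finset.univ : Finset (Finset I)).filter fun B => i₀ ∈ B ∧ B.card = 2).card ≤ Fintype.card I - 1 := by
  have h1 : ((Finset.univ : Finset (Finset I)).filter fun B => i₀ ∈ B ∧ B.card = 2) ⊆
      (Finset.univ.erase i₀ : Finset I).image fun j => {i₀, j} := by
    intro B hB
    rw [Finset.mem_filter] at hB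
    obtain ⟨-, h2, h3⟩ := hB
    rw [Finset.mem_image]
    have h4 : (B.erase i₀).card = 1 := by rw [Finset.card_erase_of_mem h2, h3]
    obtain ⟨j, hj⟩ := Finset.card_eq_one.1 h4
    refine ⟨j, ?_, ?_⟩
    · rw [Finset.mem_erase]
      refine ⟨?_, Finset.mem_univ _⟩
      have h5 : j ∈ B.erase i₀ := by rw [hj]; exact Finset.mem_singleton_self j
      exact (Finset.mem_erase.1 h5).1
    · rw [← hj, Finset.insert_erase h2]
  refine (Finset.card_le_card h1).trans (Finset.card_image_le.trans ?_)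
  rw [Finset.card_erase_of_mem (Finset.mem_univ _), Finset.card_univ]

/-- (Wf) numerics (`n ≥ 3`) -/
theorem numeric {n o s κ : ℕ} (hn : 3 ≤ n) (ho : 1 ≤ o) (hs : 60 ≤ s) (h4 : 4 * o ^ 2 ≤ s)
    (hκ : s ^ κ ≤ n.factorial * o ^ n) (hI : Fintype.card I = n) (i₀ : I) :
    ∑ B ∈ ((Finset.univ : Finset (Finset I)).filter fun B => i₀ ∈ B ∧ 2 ≤ B.card ∧ B.card ∣ n),
      (o * s) ^ (n - n / B.card) * s ^ (2 * (n / B.card)) + κ * (o * s) * s ^ (n - 1) < s ^ (2 * n - 1) := by
  have hκt := num_kappa_term hn hs h4 hκ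
  have hS : 0 < s ^ (2 * n - 1) := by positivity
  -- the single terms
  have hdiv : ∀ b : ℕ, 2 ≤ b → n / b ≤ n / 2 := fun b hb => Nat.div_le_div_left hb (by omega)
  have hterm : ∀ b : ℕ, 2 ≤ b →
      4 * 15 ^ (n - n / b - 2) * ((o * s) ^ (n - n / b) * s ^ (2 * (n / b))) ≤ s ^ (2 * n - 1) := by
    intro b hb
    have h1 := hdiv b hb
    have h2 := num_term (n := n) (o := o) (s := s) (k := n - n / b) hs h4
    generalize n / b = q at h1 h2 ⊢
    have h3 := h2 (by omega) (by omega)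
    have e : n - (n - q) = q := by omega
    rwa [e] at h3
  rcases lt_or_ge n 5 with hn5 | hn5
  · obtain rfl | rfl : n = 3 ∨ n = 4 := by omega
    · -- n = 3
      have h1 : ((Finset.univ : Finset (Finset I)).filter fun B => i₀ ∈ B ∧ 2 ≤ B.card ∧ B.card ∣ 3) ⊆
          {Finset.univ} := by
        intro B hB
        rw [Finset.mem_filter] at hB
        obtain ⟨-, -, h2, h3⟩ := hB
        rw [Finset.mem_singleton]
        apply Finset.eq_univ_of_card
        rw [hI]
        have h5 := Nat.le_of_dvd (by norm_num) h3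
        interval_cases h : B.card
        · omega
        · rfl
      have h2 := Finset.sum_le_sum_of_subset (f := fun B : Finset I =>
        (o * s) ^ (3 - 3 / B.card) * s ^ (2 * (3 / B.card))) h1
      rw [Finset.sum_singleton, Finset.card_univ, hI] at h2
      have h3 := hterm 3 (by norm_num)
      norm_num at h2 h3 hκt hS ⊢
      omega
    · -- n = 4
      have h1 : ((Finset.univ : Finset (Finset I)).filter fun B => i₀ ∈ B ∧ 2 ≤ B.card ∧ B.card ∣ 4) ⊆
          insert Finset.univ ((Finset.univ : Finset (Finset I)).filter fun B => i₀ ∈ B ∧ B.card = 2) := by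
        intro B hB
        rw [Finset.mem_filter] at hB
        obtain ⟨-, h0, h2, h3⟩ := hB
        rw [Finset.mem_insert, Finset.mem_filter]
        have h5 := Nat.le_of_dvd (by norm_num) h3
        interval_cases h : B.card
        · exact Or.inr ⟨Finset.mem_univ _, h0, rfl⟩
        · omega
        · left
          apply Finset.eq_univ_of_card
          rw [hI, h]
      have h2 := Finset.sum_le_sum_of_subset (f := fun B : Finset I =>
        (o * s) ^ (4 - 4 / B.card) * s ^ (2 * (4 / B.card))) h1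
      have h2' : ∑ B ∈ insert Finset.univ
          ((Finset.univ : Finset (Finset I)).filter fun B => i₀ ∈ B ∧ B.card = 2),
          (o * s) ^ (4 - 4 / B.card) * s ^ (2 * (4 / B.card)) ≤
          (o * s) ^ (4 - 4 / 4) * s ^ (2 * (4 / 4)) +
            3 * ((o * s) ^ (4 - 4 / 2) * s ^ (2 * (4 / 2))) := by
        rw [Finset.sum_insert]
        · rw [Finset.card_univ, hI]
          gcongr
          refine (Finset.sum_le_card_nsmul _ _ ((o * s) ^ (4 - 4 / 2) * s ^ (2 * (4 / 2))) ?_).trans ?_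
          · intro B hB
            rw [(Finset.mem_filter.1 hB).2.2]
          · rw [smul_eq_mul]
            have h6 := num_card_two i₀
            rw [hI] at h6
            exact Nat.mul_le_mul_right _ h6
        · intro h6
          have h7 := (Finset.mem_filter.1 h6).2.2
          rw [Finset.card_univ, hI] at h7
          omega
      have h3 := hterm 2 (by norm_num)
      have h5 := hterm 4 (by norm_num)
      norm_num at h2 h2' h3 h5 hκt hS ⊢
      omega
  · -- n ≥ 5
    set D : ℕ := 4 * 15 ^ (n - n / 2 - 2) with hD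
    have hD0 : 0 < D := by positivity
    set Sg : ℕ := ∑ B ∈ ((Finset.univ : Finset (Finset I)).filter fun B => i₀ ∈ B ∧ 2 ≤ B.card ∧ B.card ∣ n),
      (o * s) ^ (n - n / B.card) * s ^ (2 * (n / B.card)) with hSg
    have h1 : D * Sg ≤ 2 ^ (n - 1) * s ^ (2 * n - 1) := by
      rw [hSg, Finset.mul_sum]
      refine (Finset.sum_le_card_nsmul _ _ (s ^ (2 * n - 1)) ?_).trans ?_
      · intro B hB
        obtain ⟨-, -, h2, -⟩ := Finset.mem_filter.1 hB
        refine le_trans ?_ (hterm B.card h2)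
        rw [hD]
        have h8 := hdiv _ h2
        gcongr
        norm_num
      · rw [smul_eq_mul]
        refine Nat.mul_le_mul_right _ ?_
        have h6 := num_card_filter i₀
        rw [hI] at h6
        refine le_trans (Finset.card_le_card ?_) h6
        intro B hB
        rw [Finset.mem_filter] at hB ⊢
        exact ⟨hB.1, hB.2.1⟩
    have h2 : 15 * 2 ^ (n - 1) ≤ 8 * D := by
      have := num_pow hn5
      rw [hD]
      omega
    have h3 : D * (15 * Sg) ≤ D * (8 * s ^ (2 * n - 1)) := by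
      calc D * (15 * Sg) = 15 * (D * Sg) := by ring
        _ ≤ 15 * (2 ^ (n - 1) * s ^ (2 * n - 1)) := Nat.mul_le_mul_left _ h1
        _ = (15 * 2 ^ (n - 1)) * s ^ (2 * n - 1) := by ring
        _ ≤ (8 * D) * s ^ (2 * n - 1) := Nat.mul_le_mul_right _ h2
        _ = D * (8 * s ^ (2 * n - 1)) := by ring
    have h5 : 15 * Sg ≤ 8 * s ^ (2 * n - 1) := Nat.le_of_mul_le_mul_left h3 hD0
    omega

end Cfsg.Agent.H891.DG.WrB
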