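import Cfsg.Agent.H891.DG.Defs
import Cfsg.Agent.H489.OutAll
import Cfsg.Agent.H934.OutAll
import Cfsg.Agent.H58.Rec.Names
import Cfsg.Agent.OrdDiv.Table

/-!
# S4180, R5: `|Out T| < |T : H|` and `4 |Out T| ^ 2 ≤ |T|` (helper58)

`outNum_known`, `outNum_of`.
-/

set_option autoImplicit false
set_option maxRecDepth 100000

namespace Cfsg.Agent.H58.DG

open Cfsg Cfsg.Agent.OrdDiv Cfsg.Agent.H436 Cfsg.Agent.H58.Rec Cfsg.Agent.H891.DG
open Subgroup

universe u

theorem list_eq : ((lst [2, 3, 5, 7] [] 7 11).filter fun g => Nat.beq (181440 % ordN g) 0 && Nat.ble 1375 (ordN g)).all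
    (fun g => g ∈ [Grp.alt 7, .alt 8, .alt 9, .psl 4 2, .psu 4 2, .g2 2, .psl 3 4, .psp 2 3, .psu 3 3]) = true := by
  decide +kernel

/-- the order of `Out T` for the candidates -/
theorem card_out {T : Type u} [Group T] [Finite T] [IsSimpleGroup T] (hna : ¬ IsMulCommutative T) {g : Grp}
    (hg : IsNamed g T)
    (h : g ∈ [Grp.alt 7, .alt 8, .alt 9, .psl 4 2, .psu 4 2, .g2 2, .psl 3 4, .psp 2 3, .psu 3 3]) :
    Nat.card (Out T) = 2 ∨ Nat.card (Out T) = 12 ∨ Nat.card (Out T) = 1 := by
  have hr := hg.real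
  have hc := hg.cond
  have f2 : Fact (Nat.Prime 2) := ⟨Nat.prime_two⟩
  have f3 : Fact (Nat.Prime 3) := ⟨Nat.prime_three⟩
  simp only [List.mem_cons, List.not_mem_nil, or_false] at h
  rcases h with rfl | rfl | rfl | rfl | rfl | rfl | rfl | rfl | rfl
  · obtain ⟨e⟩ := hr
    left; rw [H55.OutGen.card_out_congr e, H489.card_out_alt (by norm_num) (by norm_num)]
  · obtain ⟨e⟩ := hr
    left; rw [H55.OutGen.card_out_congr e, H489.card_out_alt (by norm_num) (by norm_num)]
  · obtain ⟨e⟩ := hr
    left; rw [H55.OutGen.card_out_congr e, H489.card_out_alt (by norm_num) (by norm_num)]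
  · obtain ⟨F, _, _, hF, ⟨e⟩⟩ := hr
    have hA := S0813.result (F := F) 2 1 le_rfl (by rw [hF]; norm_num) 4 (by norm_num) (by norm_num)
    rw [H489.card_pgl F (by norm_num), ← mul_assoc, hF] at hA
    have ho := H489.card_out_of hna e hA
    left; rw [ho]; norm_num
  · obtain ⟨F, _, _, hF, ⟨e⟩⟩ := hr
    have hA := S0815.result (F := F) 2 1 le_rfl (q := 2) (by norm_num) hF 4 (by norm_num) (by norm_num)
    have ho := H489.card_out_of hna e hA
    left; rw [ho]; norm_num
  · exact absurd hc.1 (by norm_num)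
  · obtain ⟨F, _, _, hF, ⟨e⟩⟩ := hr
    have hA := S0813.result (F := F) 2 2 (by norm_num) (by rw [hF]; norm_num) 3 (by norm_num) (by norm_num)
    rw [H489.card_pgl F (by norm_num), ← mul_assoc, hF] at hA
    have ho := H489.card_out_of hna e hA
    right; left; rw [ho]; norm_num
  · obtain ⟨F, _, _, hF, ⟨e⟩⟩ := hr
    have hA := S0814.result (F := F) 3 1 le_rfl (by rw [hF]; norm_num) 2 (by norm_num) (by norm_num)
    have ho := H489.card_out_of hna e hA
    left; rw [ho]; norm_num
  · obtain ⟨F, _, _, hF, ⟨e⟩⟩ := hr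
    have hA := S0815.result (F := F) 3 1 le_rfl (q := 3) (by norm_num) hF 3 (by norm_num) (by norm_num)
    have ho := H489.card_out_of hna e hA
    left; rw [ho]; norm_num

theorem outNum_known {T : Type u} [Group T] [Finite T] [IsSimpleGroup T] (hna : ¬ IsMulCommutative T)
    (h : IsKnownSimple' T) : OutNum T := by
  have h60 := H489.sixty_le hna
  have hok : 900 * Nat.card (Out T) ^ 5 ≤ 8 * Nat.card T ^ 2 := H489.ok_known hna h
  have hbd := H934.OutAll.bd hna h
  have ho0 : 0 < Nat.card (Out T) := Nat.card_pos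
  set o := Nat.card (Out T) with ho
  set s := Nat.card T with hs
  constructor
  · intro H hH
    by_contra hlt
    push Not at hlt
    have h1 := hbd H hH
    rw [← ho] at h1
    have hdv := Cfsg.Agent.SmallSimple.Embed.two_mul_card_dvd_factorial_index hna H hH
    have h5 := Cfsg.Agent.SmallSimple.Embed.five_le_index hna H hH
    rw [← hs] at hdv
    set i := H.index with hi
    have hi9 : i ≤ 9 := by
      by_contra h10
      push Not at h10
      have h2 : 2 ^ i ≤ 2 ^ o := Nat.pow_le_pow_right (by norm_num) hlt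
      have key : ∀ n : ℕ, 10 ≤ n → n ^ 3 < 2 ^ n := by
        intro n hn
        induction n, hn using Nat.le_induction with
        | base => norm_num
        | succ n hn ih =>
          rw [pow_succ 2 n]
          have h3 : (n + 1) ^ 3 ≤ 2 * n ^ 3 := by
            have : 10 * n ^ 2 ≤ n ^ 3 := by
              calc 10 * n ^ 2 ≤ n * n ^ 2 := Nat.mul_le_mul_right _ hn
                _ = n ^ 3 := by ring
            nlinarith
          omega
      have h4 := key i h10
      omega
    have ho9 : o ≤ 9 := by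
      by_contra h10
      push Not at h10
      have h2 : 2 ^ 10 ≤ 2 ^ o := Nat.pow_le_pow_right (by norm_num) h10
      have h3 : i ^ 3 ≤ 9 ^ 3 := Nat.pow_le_pow_left hi9 3
      norm_num at h2 h3
      omega
    have hspos : 0 < s := by omega
    have hdv' : s ∣ 181440 := by
      have h2 : 2 * s ∣ 362880 := hdv.trans (by
        have h3 : i.factorial ∣ (9 : ℕ).factorial := Nat.factorial_dvd_factorial hi9
        simpa [Nat.factorial] using h3)
      obtain ⟨c, hc⟩ := h2
      exact ⟨c, by
        have h4 : 2 * (s * c) = 362880 := by rw [hc]; ring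
        omega⟩
    have hge : 1375 ≤ s := by
      by_contra hlt'
      push Not at hlt'
      have h2 : o ^ 5 ≥ i ^ 5 := Nat.pow_le_pow_left hlt 5
      have hle : 2 * s ≤ i.factorial := Nat.le_of_dvd (Nat.factorial_pos _) hdv
      interval_cases i
      · have h3 : s ≤ 60 := by simp [Nat.factorial] at hle; omega
        have h4 : s ^ 2 ≤ 60 ^ 2 := Nat.pow_le_pow_left h3 2
        norm_num at h2 h4
        omega
      · have h3 : s ≤ 360 := by simp [Nat.factorial] at hle; omega
        have h4 : s ^ 2 ≤ 360 ^ 2 := Nat.pow_le_pow_left h3 2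
        norm_num at h2 h4
        omega
      all_goals
        have h4 : s ^ 2 ≤ 1374 ^ 2 := Nat.pow_le_pow_left (by omega) 2
        norm_num at h2 h4
        omega
    obtain ⟨g, hg⟩ := exists_named table h fun hc => hna ⟨⟨hc⟩⟩
    have hmem : g ∈ lst [2, 3, 5, 7] [] 7 11 := by
      refine mem_lst hg (by norm_num) (by decide) (by norm_num) (by decide) ?_ (by simp)
      intro r hr hd
      have h2 : r ∣ 181440 := hd.trans hdv'
      have h3 : (181440 : ℕ) = 2 ^ 6 * 3 ^ 4 * 5 * 7 := by norm_num
      rw [h3] at h2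
      have key : ∀ {p : ℕ}, p.Prime → r ∣ p → r = p := fun hp h => (Nat.prime_dvd_prime_iff_eq hr hp).1 h
      have keyp : ∀ {p n : ℕ}, p.Prime → r ∣ p ^ n → r = p := fun hp h => key hp (hr.dvd_of_dvd_pow h)
      simp only [List.mem_cons, List.not_mem_nil, or_false]
      rcases hr.dvd_mul.1 h2 with h2 | h4
      swap; · have := key (by norm_num) h4; omega
      rcases hr.dvd_mul.1 h2 with h2 | h4
      swap; · have := key (by norm_num) h4; omega
      rcases hr.dvd_mul.1 h2 with h4 | h4
      · have := keyp (by norm_num) h4; omega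
      · have := keyp (by norm_num) h4; omega
    have h2 := list_eq
    rw [List.all_eq_true] at h2
    have h3 := h2 g (by
      rw [List.mem_filter]
      refine ⟨hmem, ?_⟩
      rw [Bool.and_eq_true, Nat.beq_eq, Nat.ble_eq, ← hg.ord, ← hs]
      exact ⟨Nat.mod_eq_zero_of_dvd hdv', hge⟩)
    have h4 := card_out hna hg (of_decide_eq_true h3)
    rw [← ho] at h4
    omega
  · by_contra hlt
    push Not at hlt
    have h1 : s ^ 2 < (4 * o ^ 2) ^ 2 := Nat.pow_lt_pow_left hlt (by norm_num)
    have h2 : 900 * o ^ 5 < 128 * o ^ 4 := by nlinarith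
    have h3 : 0 < o ^ 4 := by positivity
    have h4 : o ^ 4 ≤ o ^ 5 := Nat.pow_le_pow_right ho0 (by norm_num)
    omega

/-- **The numerical input of S4180.** -/
theorem outNum_of (h : ∀ (T : Type u) [Group T] [Finite T] [IsSimpleGroup T], IsKnownSimple' T) :
    AllSimple.{u} OutNum := fun T _ _ _ hna => outNum_known hna (h T)

end Cfsg.Agent.H58.DG
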